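import Groth.Agent.Comod.Coeff
import Mathlib

/-!
# Characters of an affine group that are non-trivial on a central multiplicative subgroup
-/

set_option autoImplicit false

universe u

open TensorProduct WithConv

noncomputable section

namespace Groth.Agent.CentralChar

open Groth.Agent.Comod

variable {k : Type u} [Field k] {A : Type u} [CommRing A] [HopfAlgebra k A]

/-- The group algebra of the integers. -/
abbrev B (k : Type u) [Field k] : Type u := MonoidAlgebra k (Multiplicative ℤ)

/-- The coefficient at a character. -/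
def cf (m : Multiplicative ℤ) : B k →ₗ[k] k where
  toFun x := x.coeff m
  map_add' x y := by simp
  map_smul' r x := by simp

theorem cf_apply (m : Multiplicative ℤ) (x : B k) : cf m x = x.coeff m := rfl

theorem cf_single [DecidableEq (Multiplicative ℤ)] (m m' : Multiplicative ℤ) (r : k) :
    cf m (MonoidAlgebra.single m' r) = if m' = m then r else 0 := by
  simp [cf_apply, Finsupp.single_apply]

theorem cf_comul [DecidableEq (Multiplicative ℤ)] (m m' : Multiplicative ℤ) (x : B k) :
    TensorProduct.lid k k (TensorProduct.map (cf m) (cf m') (CoalgebraStruct.comul (R := k) x)) =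
      if m = m' then cf m x else 0 := by
  induction x using MonoidAlgebra.induction_linear with
  | zero => simp
  | add a b ha hb => rw [map_add, map_add, map_add, ha, hb, map_add]; split_ifs <;> simp
  | single a r =>
    rw [MonoidAlgebra.comul_single]
    simp [cf_single]
    split_ifs <;> simp_all

/-- The determinant of a corepresentation is group-like. -/
theorem isGroupLike_det {n : Type*} [Fintype n] [DecidableEq n] {Q : Matrix n n A}
    (hQ : IsCorep (k := k) Q) : IsGroupLikeElem k Q.det := by
  constructor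
  · show Bialgebra.counitAlgHom k A Q.det = 1
    rw [AlgHom.map_det, show (Bialgebra.counitAlgHom k A).mapMatrix Q = 1 from hQ.map_counit, Matrix.det_one]
  · show Bialgebra.comulAlgHom k A Q.det = Q.det ⊗ₜ[k] Q.det
    rw [AlgHom.map_det, show (Bialgebra.comulAlgHom k A).mapMatrix Q = _ from hQ.map_comul, Matrix.det_mul]
    rw [show (Q.map (Algebra.TensorProduct.includeLeft : A →ₐ[k] A ⊗[k] A)).det = Q.det ⊗ₜ 1 from
      (AlgHom.map_det _ Q).symm, show (Q.map
      (Algebra.TensorProduct.includeRight : A →ₐ[k] A ⊗[k] A)).det = 1 ⊗ₜ Q.det from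
      (AlgHom.map_det _ Q).symm]
    simp

theorem map_sc {n : Type*} {C : Type u} [CommRing C] [Algebra k C] (f : A →ₐ[k] C)
    (P : Matrix n n k) : (sc (A := A) P).map f = P.map (algebraMap k C) := by
  ext i j
  simp

theorem map_stable {n : Type*} [Fintype n] [DecidableEq n] {C : Type u} [CommRing C] [Algebra k C]
    (f : A →ₐ[k] C) (e : Matrix n n k) (M : Matrix n n A) :
    (sc e * M + sc (1 - e)).map f = e.map (algebraMap k C) * M.map f + (1 - e).map (algebraMap k C) := by
  rw [← map_sc f e, ← map_sc f (1 - e)]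
  show f.mapMatrix (sc e * M + sc (1 - e)) = _
  rw [map_add, map_mul]
  rfl

/-- The part of a corepresentation on which a commuting idempotent acts. -/
theorem isCorep_part {n : Type*} [Fintype n] [DecidableEq n] {M : Matrix n n A} {e : Matrix n n k}
    (hM : IsCorep (k := k) M) (he : e * e = e) (hc : M * sc e = sc e * M) :
    IsCorep (k := k) (sc e * M + sc (1 - e)) := by
  constructor
  · have hsc : (algebraMap k (A ⊗[k] A)).mapMatrix e = e.map (algebraMap k (A ⊗[k] A)) := rfl
    rw [map_stable, map_stable, map_stable, hM.map_comul]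
    set E := e.map (algebraMap k (A ⊗[k] A)) with hE
    set F := (1 - e).map (algebraMap k (A ⊗[k] A)) with hF
    set L := M.map (Algebra.TensorProduct.includeLeft : A →ₐ[k] A ⊗[k] A) with hL
    set R := M.map (Algebra.TensorProduct.includeRight : A →ₐ[k] A ⊗[k] A) with hR
    have hEE : E * E = E := by rw [hE, ← Matrix.map_mul, he]
    have hFF : F * F = F := by
      rw [hF, ← Matrix.map_mul]; congr 1; rw [sub_mul, one_mul, mul_sub, mul_one, he, sub_self, sub_zero]
    have hEF : E * F = 0 := by
      rw [hE, hF, ← Matrix.map_mul, mul_sub, mul_one, he, sub_self, Matrix.map_zero _ (map_zero _)]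
    have hFE : F * E = 0 := by
      rw [hE, hF, ← Matrix.map_mul, sub_mul, one_mul, he, sub_self, Matrix.map_zero _ (map_zero _)]
    have hLE : L * E = E * L := by
      have h := congrArg (Algebra.TensorProduct.includeLeft : A →ₐ[k] A ⊗[k] A).mapMatrix hc
      rw [map_mul, map_mul] at h
      rw [hL, hE, ← map_sc (Algebra.TensorProduct.includeLeft : A →ₐ[k] A ⊗[k] A) e]
      exact h
    have h1 : E * L * (E * R) = E * (L * R) := by
      rw [mul_assoc, ← mul_assoc L E R, hLE, mul_assoc E L R, ← mul_assoc, hEE]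
    have h2 : E * L * F = 0 := by rw [← hLE, mul_assoc, hEF, mul_zero]
    have h3 : F * (E * R) = 0 := by rw [← mul_assoc, hFE, zero_mul]
    rw [add_mul, mul_add, mul_add, h1, h2, h3, hFF]
    simp
  · rw [map_stable, hM.map_counit, Algebra.algebraMap_self]
    simp

theorem eq_sum_cf (x : B k) (S : Finset (Multiplicative ℤ)) (hS : x.coeff.support ⊆ S) :
    x = ∑ m ∈ S, MonoidAlgebra.single m (cf m x) := by
  classical
  refine MonoidAlgebra.coeff_injective (Finsupp.ext fun a => ?_)
  rw [MonoidAlgebra.coeff_sum, Finsupp.finsetSum_apply]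
  simp [Finsupp.single_apply, cf_apply]
  intro h
  exact Finsupp.notMem_support_iff.mp fun h' => h (hS h')

theorem isUnit_pow_surjective [IsAlgClosed k] {m : ℤ} (hm : m ≠ 0) (x : k) (hx : x ≠ 0) :
    ∃ s : kˣ, ((s ^ m : kˣ) : k) = x := by
  obtain ⟨s, hs⟩ := IsAlgClosed.exists_pow_nat_eq x (Int.natAbs_pos.mpr hm)
  have hs0 : s ≠ 0 := fun h => hx (by rw [← hs, h, zero_pow (Int.natAbs_ne_zero.mpr hm)])
  rcases Int.natAbs_eq m with h | h
  · exact ⟨Units.mk0 s hs0, by rw [h, zpow_natCast]; simpa using hs⟩
  · refine ⟨(Units.mk0 s hs0)⁻¹, ?_⟩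
    rw [h, zpow_neg, inv_zpow, inv_inv, zpow_natCast]
    simpa using hs

variable (π : A →ₐc[k] B k)

/-- The weight projectors of a corepresentation. -/
def wt {n : Type*} (M : Matrix n n A) (m : Multiplicative ℤ) : Matrix n n k :=
  M.map fun a => cf m (π a)

theorem wt_idem {n : Type*} [Fintype n] [DecidableEq n] {M : Matrix n n A} (hM : IsCorep (k := k) M)
    (m m' : Multiplicative ℤ) : wt π M m * wt π M m' = if m = m' then wt π M m else 0 := by
  ext i j
  have h := congr(TensorProduct.map (π : A →ₗ[k] B k) (π : A →ₗ[k] B k)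
    $(congrFun (congrFun hM.map_comul i) j))
  simp only [Matrix.map_apply, Bialgebra.comulAlgHom_apply] at h
  rw [CoalgHomClass.map_comp_comul_apply] at h
  have h2 := congr(TensorProduct.lid k k (TensorProduct.map (cf m) (cf m') $h))
  rw [cf_comul] at h2
  simp [Matrix.mul_apply, map_sum] at h2
  simp only [wt, Matrix.mul_apply, Matrix.map_apply]
  rw [← h2]
  split_ifs <;> simp [wt]

theorem wt_comm {n : Type*} [Fintype n] [DecidableEq n] {M : Matrix n n A} (hM : IsCorep (k := k) M)
    (hcent : toConv (Algebra.TensorProduct.includeLeft : A →ₐ[k] A ⊗[k] B k) *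
        toConv ((Algebra.TensorProduct.includeRight : B k →ₐ[k] A ⊗[k] B k).comp (π : A →ₐ[k] B k)) =
      toConv ((Algebra.TensorProduct.includeRight : B k →ₐ[k] A ⊗[k] B k).comp (π : A →ₐ[k] B k)) *
        toConv (Algebra.TensorProduct.includeLeft : A →ₐ[k] A ⊗[k] B k))
    (m : Multiplicative ℤ) : M * sc (wt π M m) = sc (wt π M m) * M := by
  ext i j
  have h := congr(($hcent).ofConv (M i j))
  simp only [AlgHom.convMul_apply, WithConv.ofConv_toConv] at h
  have hc := congrFun (congrFun hM.map_comul i) j
  simp only [Matrix.map_apply, Bialgebra.comulAlgHom_apply] at hc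
  rw [hc] at h
  simp [Matrix.mul_apply, map_sum] at h
  have h2 := congr(TensorProduct.rid k A (TensorProduct.map LinearMap.id (cf m) $h))
  simp [map_sum, Algebra.smul_def] at h2
  simp [Matrix.mul_apply, wt]
  simpa [mul_comm] using h2

theorem exists_groupLike [IsAlgClosed k] (hπ : Function.Surjective π)
    (hcent : toConv (Algebra.TensorProduct.includeLeft : A →ₐ[k] A ⊗[k] B k) *
        toConv ((Algebra.TensorProduct.includeRight : B k →ₐ[k] A ⊗[k] B k).comp (π : A →ₐ[k] B k)) =
      toConv ((Algebra.TensorProduct.includeRight : B k →ₐ[k] A ⊗[k] B k).comp (π : A →ₐ[k] B k)) *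
        toConv (Algebra.TensorProduct.includeLeft : A →ₐ[k] A ⊗[k] B k)) :
    ∃ (g : GroupLike k A) (n : ℕ), 1 ≤ n ∧
      π g.val = MonoidAlgebra.single (Multiplicative.ofAdd (n : ℤ)) 1 := by
  classical
  obtain ⟨a, ha⟩ := hπ (MonoidAlgebra.single (Multiplicative.ofAdd 1) 1)
  obtain ⟨d, M, hM, hspan⟩ := exists_corep_of_finset k ({a} : Finset A)
  obtain ⟨m, hm1, hm⟩ : ∃ m, m ≠ 1 ∧ wt π M m ≠ 0 := by
    by_contra hcon
    push Not at hcon
    let V : Submodule k A := LinearMap.ker ((cf (Multiplicative.ofAdd 1)).comp (π : A →ₗ[k] B k))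
    have hle : Submodule.span k (Set.range fun p : Fin d × Fin d => M p.1 p.2) ≤ V := by
      rw [Submodule.span_le]
      rintro _ ⟨⟨i, j⟩, rfl⟩
      exact congrFun (congrFun (hcon (Multiplicative.ofAdd 1) (by decide)) i) j
    have h := hle (hspan a (Finset.mem_singleton_self a))
    simp [V, ha, cf_single] at h
  set e := wt π M m with he
  have hee : e * e = e := by rw [he, wt_idem π hM, if_pos rfl]
  have hQ := isCorep_part hM hee (wt_comm π hM hcent m)
  set Q := sc e * M + sc (1 - e) with hQdef
  have hg := isGroupLike_det hQ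
  let g : GroupLike k A := ⟨Q.det, hg⟩
  obtain ⟨c, hcq⟩ : ∃ c, π Q.det = MonoidAlgebra.single c 1 := by
    have h : IsGroupLikeElem k (π Q.det) := hg.map π
    obtain ⟨c, hc⟩ := (MonoidAlgebra.isGroupLikeElem_iff_mem_range_of).mp h
    exact ⟨c, hc.symm⟩
  let S : Finset (Multiplicative ℤ) :=
    insert m (Finset.univ.biUnion fun p : Fin d × Fin d => (π (M p.1 p.2)).coeff.support)
  have hN : M.map π = ∑ m' ∈ S, (wt π M m').map (MonoidAlgebra.single m') := by
    refine Matrix.ext fun i j => ?_
    rw [Matrix.sum_apply]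
    exact eq_sum_cf _ S fun x hx =>
      Finset.mem_insert_of_mem (Finset.mem_biUnion.mpr ⟨(i, j), Finset.mem_univ _, hx⟩)
  have hEN : e.map (algebraMap k (B k)) * M.map π = e.map (MonoidAlgebra.single m) := by
    have key : ∀ m', e.map (algebraMap k (B k)) * (wt π M m').map (MonoidAlgebra.single m') =
        (e * wt π M m').map (MonoidAlgebra.single m') := fun m' => by
      refine Matrix.ext fun i j => ?_
      simp [Matrix.mul_apply, MonoidAlgebra.single_mul_single]
      exact (map_sum (MonoidAlgebra.singleAddHom m') _ _).symm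
    rw [hN, Finset.mul_sum, Finset.sum_eq_single m]
    · rw [key, hee]
    · intro b _ hb
      rw [key, he, wt_idem π hM, if_neg (Ne.symm hb)]
      refine Matrix.ext fun i j => ?_
      simp
    · exact fun h => absurd (Finset.mem_insert_self _ _) h
  have hc1 : c ≠ 1 := by
    intro hc
    let P : Matrix (Fin d) (Fin d) (Polynomial k) :=
      (Polynomial.X : Polynomial k) • e.map Polynomial.C + (1 - e).map Polynomial.C
    have hev : ∀ x : k, P.det.eval x = (x • e + (1 - e)).det := fun x => by
      show Polynomial.evalRingHom x P.det = _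
      rw [RingHom.map_det]
      congr 1
      ext i j
      simp [P]
      exact mul_comm _ _
    have hall : ∀ x : k, x ≠ 0 → P.det.eval x = 1 := by
      intro x hx
      have hm0 : m.toAdd ≠ 0 := fun h => hm1 h
      obtain ⟨s, hs⟩ := isUnit_pow_surjective hm0 x hx
      let ev : B k →ₐ[k] k := MonoidAlgebra.lift k k (Multiplicative ℤ)
        ((Units.coeHom k).comp (zpowersHom kˣ s))
      have hevm : ev (MonoidAlgebra.single m 1) = x := by
        simp [ev, zpowersHom_apply, ← hs]
      have h1 : ev (π Q.det) = 1 := by rw [hcq, hc]; simp [ev]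
      rw [hev, ← h1]
      show _ = (ev.comp (π : A →ₐ[k] B k)) Q.det
      rw [AlgHom.map_det]
      congr 1
      show _ = Q.map (ev.comp (π : A →ₐ[k] B k))
      rw [hQdef, map_stable, Algebra.algebraMap_self]
      have h2 : e.map (RingHom.id k) * M.map (ev.comp (π : A →ₐ[k] B k)) = x • e := by
        have h3 := congrArg (fun X : Matrix (Fin d) (Fin d) (B k) => ev.mapMatrix X) hEN
        simp only [map_mul] at h3
        have h4 : ev.mapMatrix (e.map (algebraMap k (B k))) = e.map (RingHom.id k) := by
          ext i j; exact ev.commutes (e i j)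
        have h5 : ev.mapMatrix (e.map (MonoidAlgebra.single m)) = x • e := by
          ext i j
          show ev (MonoidAlgebra.single m (e i j)) = x * e i j
          rw [← mul_one (e i j), ← MonoidAlgebra.smul_single', map_smul, hevm, smul_eq_mul, mul_one, mul_comm]
        rw [h4, h5] at h3
        exact h3
      rw [h2]
      simp
    have hP1 : P.det = 1 := by
      refine Polynomial.eq_of_infinite_eval_eq _ _ ((Set.infinite_univ.sdiff (Set.finite_singleton (0 : k))).mono
        fun x hx => ?_)
      simpa using hall x (by simpa using hx)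
    have h0 := hev 0
    rw [hP1, Polynomial.eval_one, zero_smul, zero_add] at h0
    have hu : IsUnit (1 - e) := (Matrix.isUnit_iff_isUnit_det _).mpr (h0 ▸ isUnit_one)
    apply hm
    have : (1 - e) * e = 0 := by rw [sub_mul, one_mul, hee, sub_self]
    exact hu.mul_right_eq_zero.mp this
  have hc0 : c.toAdd ≠ 0 := fun h => hc1 h
  have hgpow : ∀ z : ℤ, π (g ^ z).val = MonoidAlgebra.single (c ^ z) 1 := by
    intro z
    let φ : GroupLike k A →* B k :=
      { toFun := fun x => π x.val, map_one' := by simp, map_mul' := fun x y => by simp }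
    let ψ : Multiplicative ℤ →* B k := MonoidAlgebra.of k _
    have h : φ.comp (zpowersHom _ g) = ψ.comp (zpowersHom _ c) :=
      MonoidHom.ext_mint (by simp [φ, ψ, g, hcq, zpowersHom_apply])
    simpa [φ, ψ, zpowersHom_apply] using congr($h (Multiplicative.ofAdd z))
  refine ⟨g ^ c.toAdd.sign, c.toAdd.natAbs, Int.natAbs_pos.mpr hc0, ?_⟩
  rw [hgpow]
  congr 1
  apply Multiplicative.toAdd.injective
  simp [Int.sign_mul_self_eq_natAbs, toAdd_zpow]

theorem exists_hom [IsAlgClosed k] (hπ : Function.Surjective π)
    (hcent : toConv (Algebra.TensorProduct.includeLeft : A →ₐ[k] A ⊗[k] B k) *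
        toConv ((Algebra.TensorProduct.includeRight : B k →ₐ[k] A ⊗[k] B k).comp (π : A →ₐ[k] B k)) =
      toConv ((Algebra.TensorProduct.includeRight : B k →ₐ[k] A ⊗[k] B k).comp (π : A →ₐ[k] B k)) *
        toConv (Algebra.TensorProduct.includeLeft : A →ₐ[k] A ⊗[k] B k)) :
    ∃ (χ : B k →ₐc[k] A) (n : ℕ), 1 ≤ n ∧
      toConv ((π : A →ₐ[k] B k).comp (χ : B k →ₐ[k] A)) = toConv (AlgHom.id k (B k)) ^ n := by
  obtain ⟨g, n, hn, hg⟩ := exists_groupLike π hπ hcent
  refine ⟨MonoidAlgebra.liftGroupLikeBialgHom.comp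
    (MonoidAlgebra.mapDomainBialgHom k (zpowersHom (GroupLike k A) g)), n, hn, ?_⟩
  let F : WithConv (B k →ₐ[k] B k) ≃* (Multiplicative ℤ →* B k) :=
    (MonoidAlgebra.liftMulEquiv (R := k) (A := B k) (M := Multiplicative ℤ)).symm
  apply F.injective
  rw [map_pow]
  refine MonoidHom.ext_mint ?_
  rw [MonoidHom.pow_apply]
  simp [F, MonoidAlgebra.liftMulEquiv, MonoidAlgebra.liftGroupLikeBialgHom, zpowersHom_apply, hg,
    MonoidAlgebra.single_pow]
  rw [← ofAdd_nsmul]; simp

end Groth.Agent.CentralChar
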